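import Cfsg.Agent.H2.Fi23C.Basic

/-!
S3233: generalities on `W` and on the core, and the key fact that an element of `C(z)` centralising
the centraliser in the core of a noncentral element of the core lies in the core.
-/

set_option autoImplicit false
set_option linter.unusedSectionVars false

namespace H62.Fi23C

open H2.Fi23C

variable {G : Type*} [Group G] {F : Type*} [Field F] [Fintype F] {z a b c : G}
  {J K₀ : Subgroup G} {π : ↥K₀ →* Cfsg.PSp 2 F}

theorem mem_cz {g : G} : g ∈ Subgroup.centralizer ({z} : Set G) ↔ Commute g z :=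
  Subgroup.mem_centralizer_singleton_iff

theorem comm_conj {g x : G} : Commute g x ↔ g * x * g⁻¹ = x :=
  mul_inv_eq_iff_eq_mul.symm

theorem conj_comm {g x y : G} (h : Commute x y) : Commute (g * x * g⁻¹) (g * y * g⁻¹) := by
  simpa using h.map (MulAut.conj g).toMonoidHom

theorem conj_eq_one {g x : G} (h : g * x * g⁻¹ = 1) : x = 1 := by
  rwa [conj_eq_one_iff] at h

section basic

variable (S : Setup4 z a b c J K₀ π)
include S

theorem j_cent {p : G} (hp : p ∈ J) : Commute p z := mem_cz.1 (S.le_cent (S.J_le hp))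

theorem inW_sq {w : G} (hw : InW a b w) : w * w = 1 := by
  rcases hw with rfl | rfl | rfl | rfl
  · exact one_mul _
  · exact S.a_sq
  · exact S.b_sq
  · calc a * b * (a * b) = a * (b * a) * b := by group
      _ = a * (a * b) * b := by rw [S.ab_comm.eq]
      _ = (a * a) * (b * b) := by group
      _ = 1 := by rw [S.a_sq, S.b_sq, one_mul]

theorem inW_mem {w : G} (hw : InW a b w) : w ∈ J := by
  rcases hw with rfl | rfl | rfl | rfl
  exacts [one_mem _, S.a_mem, S.b_mem, mul_mem S.a_mem S.b_mem]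

theorem isA_mem {e : G} (he : IsA a b e) : e ∈ J := inW_mem S (Or.inr he)

theorem isA_sq {e : G} (he : IsA a b e) : e * e = 1 := inW_sq S (Or.inr he)

theorem isA_z {e : G} (he : IsA a b e) : Commute e z := j_cent S (isA_mem S he)

theorem isA_ne {e : G} (he : IsA a b e) : e ≠ 1 ∧ e ≠ z := by
  rcases he with rfl | rfl | rfl
  · exact S.a_ne
  · exact ⟨S.b_ne.1, S.b_ne.2.1⟩
  · refine ⟨fun h => S.b_ne.2.2.1 ?_, S.ab_ne⟩
    calc b = (a * a) * b := by rw [S.a_sq, one_mul]
      _ = a * (a * b) := by group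
      _ = a := by rw [h, mul_one]

theorem inW_mul {v w : G} (hv : InW a b v) (hw : InW a b w) : InW a b (v * w) := by
  have hab := S.ab_comm.eq
  have e1 : b * a = a * b := hab.symm
  have e2 : a * (a * b) = b := by rw [← mul_assoc, S.a_sq, one_mul]
  have e3 : b * (a * b) = a := by rw [← mul_assoc, e1, mul_assoc, S.b_sq, mul_one]
  have e4 : a * b * a = b := by rw [mul_assoc, e1, e2]
  have e5 : a * b * b = a := by rw [mul_assoc, S.b_sq, mul_one]
  have e6 : a * b * (a * b) = 1 := inW_sq S (Or.inr (Or.inr (Or.inr rfl)))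
  rcases hv with rfl | rfl | rfl | rfl <;> rcases hw with rfl | rfl | rfl | rfl <;>
    simp [InW, S.a_sq, S.b_sq, e1, e2, e3, e4, e5, e6]

theorem inW_comm {v w : G} (hv : InW a b v) (hw : InW a b w) : Commute v w := by
  have h := inW_sq S (inW_mul S hv hw)
  calc v * w = (v * w)⁻¹ := (inv_eq_of_mul_eq_one_right h).symm
    _ = w⁻¹ * v⁻¹ := mul_inv_rev v w
    _ = w * v := by
      rw [inv_eq_of_mul_eq_one_right (inW_sq S hw), inv_eq_of_mul_eq_one_right (inW_sq S hv)]

theorem isA_of_inW {w : G} (hw : InW a b w) (h : w ≠ 1) : IsA a b w := hw.resolve_left h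

theorem conj_isA {g : G} (hg : NormW a b g) {e : G} (he : IsA a b e) :
    IsA a b (g * e * g⁻¹) :=
  isA_of_inW S (hg e (Or.inr he)) fun h => (isA_ne S he).1 (conj_eq_one h)

theorem normW_mul {g h : G} (hg : NormW a b g) (hh : NormW a b h) : NormW a b (g * h) :=
  fun w hw => by
    rw [show g * h * w * (g * h)⁻¹ = g * (h * w * h⁻¹) * g⁻¹ by group]
    exact hg _ (hh w hw)

theorem normW_of_cent {g : G} (hg : Commute g z) : NormW a b g := S.conj_W g (mem_cz.2 hg)

theorem c_comm : Commute c z := mem_cz.1 S.c_mem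

/-- `c` permutes the three involutions of `W` transitively. -/
theorem rot {e e' : G} (he : IsA a b e) (he' : IsA a b e') :
    ∃ g, Commute g z ∧ g * e * g⁻¹ = e' := by
  have hc := c_comm S
  have key : ∀ {x y : G}, IsA a b x → IsA a b y → x = a →
      ∃ g, Commute g z ∧ g * x * g⁻¹ = y := by
    rintro x y - hy rfl
    rcases hy with rfl | rfl | rfl
    · exact ⟨1, Commute.one_left z, by group⟩
    · exact ⟨c, hc, S.c_a⟩
    · refine ⟨c * c, hc.mul_left hc, ?_⟩
      rw [show c * c * x * (c * c)⁻¹ = c * (c * x * c⁻¹) * c⁻¹ by group, S.c_a, S.c_b]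
  obtain ⟨g, hg, rfl⟩ := key (Or.inl rfl) he rfl
  obtain ⟨g', hg', rfl⟩ := key (Or.inl rfl) he' rfl
  exact ⟨g' * g⁻¹, hg'.mul_left hg.inv_left, by group⟩

theorem inZ_mem {p : G} (hp : InZ z a b p) : p ∈ J := by
  rcases hp with h | h
  · exact inW_mem S h
  · have := mul_mem (inW_mem S h) S.z_mem
    rwa [mul_assoc, S.sq, mul_one] at this

theorem inW_K₀ {w g : G} (hw : InW a b w) (hg : g ∈ K₀) : Commute w g := by
  rcases hw with rfl | rfl | rfl | rfl
  exacts [Commute.one_left _, S.a_K₀ g hg, S.b_K₀ g hg, (S.a_K₀ g hg).mul_left (S.b_K₀ g hg)]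

theorem inZ_K₀ {p g : G} (hp : InZ z a b p) (hg : g ∈ K₀) : Commute p g := by
  rcases hp with h | h
  · exact inW_K₀ S h hg
  · have h1 := (inW_K₀ S h hg).mul_left (mem_cz.1 (S.le_cent hg)).symm
    rwa [mul_assoc, S.sq, mul_one] at h1

theorem inZ_sq {p : G} (hp : InZ z a b p) : p * p = 1 := by
  rcases hp with h | h
  · exact inW_sq S h
  · have h1 := inW_sq S h
    have hc : Commute (p * z) z := j_cent S (inW_mem S h)
    calc p * p = (p * z * z) * (p * z * z) := by rw [mul_assoc p z z, S.sq, mul_one]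
      _ = (p * z) * (z * (p * z)) * z := by group
      _ = (p * z) * ((p * z) * z) * z := by rw [hc.eq]
      _ = (p * z * (p * z)) * (z * z) := by group
      _ = 1 := by rw [h1, S.sq, one_mul]

theorem not_inZ_exists {x : G} (hx : x ∈ J) (hn : ¬ InZ z a b x) :
    ∃ q ∈ J, x * q = q * x * z := by
  by_contra h
  push Not at h
  exact hn (S.center x hx fun q hq => (S.comm_mem x hx q hq).resolve_right (h q hq))

/-- The commutator form is nondegenerate: a hyperplane determines its element modulo the centre. -/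
theorem eq_of_centJ {x y : G} (hx : x ∈ J) (hy : y ∈ J) (hn : ¬ InZ z a b x)
    (h : centJ J y ⊆ centJ J x) : InZ z a b (y⁻¹ * x) := by
  obtain ⟨q, hq, hxq⟩ := not_inZ_exists S hx hn
  have hyq : y * q = q * y * z := by
    refine (S.comm_mem y hy q hq).resolve_left fun e => ?_
    have h1 := (h ⟨hq, e⟩).2.eq
    rw [h1] at hxq
    exact S.ne_one (mul_eq_left.1 hxq.symm)
  have hkey : ∀ {p : G}, p ∈ J → x * p = p * x * z → y * p = p * y * z →
      Commute (y⁻¹ * x) p := by
    intro p hp e1 e2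
    have hzp : Commute z p := (j_cent S hp).symm
    have hzy : Commute z y := (j_cent S hy).symm
    show y⁻¹ * x * p = p * (y⁻¹ * x)
    rw [mul_assoc, e1]
    have e3 : p * y⁻¹ = y⁻¹ * p * z⁻¹ := by
      calc p * y⁻¹ = y⁻¹ * (y * p) * y⁻¹ := by group
        _ = y⁻¹ * (p * y * z) * y⁻¹ := by rw [e2]
        _ = y⁻¹ * p * (y * z) * y⁻¹ := by group
        _ = y⁻¹ * p * (z * y) * y⁻¹ := by rw [hzy.eq]
        _ = y⁻¹ * p * z := by group
        _ = y⁻¹ * p * z⁻¹ := by rw [inv_eq_of_mul_eq_one_right S.sq]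
    rw [← mul_assoc p, e3, inv_eq_of_mul_eq_one_right S.sq]
    calc y⁻¹ * (p * x * z) = y⁻¹ * p * (x * z) := by group
      _ = y⁻¹ * p * (z * x) := by rw [(j_cent S hx).eq]
      _ = _ := by group
  have hq' := hkey hq hxq hyq
  refine S.center _ (mul_mem (inv_mem hy) hx) fun p hp => ?_
  rcases S.comm_mem y hy p hp with e | e
  · have hxp := (h ⟨hp, e⟩).2
    exact (Commute.inv_left e).mul_left hxp
  · -- `p * q` is centralised by `y`
    have hpq : Commute y (p * q) := by
      show y * (p * q) = p * q * y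
      have hzq : Commute z q := (j_cent S hq).symm
      calc y * (p * q) = (y * p) * q := by group
        _ = p * y * (z * q) := by rw [e]; group
        _ = p * y * (q * z) := by rw [hzq.eq]
        _ = p * (y * q) * z := by group
        _ = p * q * y * (z * z) := by rw [hyq]; group
        _ = p * q * y := by rw [S.sq, mul_one]
    have hxpq := (h ⟨mul_mem hp hq, hpq⟩).2
    have h2 : Commute (y⁻¹ * x) (p * q) := hpq.inv_left.mul_left hxpq
    have h3 := h2.mul_right hq'.inv_right
    rwa [mul_inv_cancel_right] at h3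

/-- An element of `C(z)` centralising the hyperplane of a noncentral element lies in the core. -/
theorem mem_J_of_centJ {x A : G} (hx : x ∈ J) (hn : ¬ InZ z a b x) (hA : Commute A z)
    (h : centJ J x ⊆ centJ J A) : A ∈ J := by
  have hzin : ∀ {w : G}, InW a b w → Commute A w := fun hw =>
    (h ⟨inW_mem S hw, (inW_K₀ S hw (S.J_le hx)).symm⟩).2
  have hAK : A ∈ K₀ := S.mem_K₀ A (mem_cz.2 hA) (hzin (Or.inr (Or.inl rfl))).symm
    (hzin (Or.inr (Or.inr (Or.inl rfl)))).symm
  have hc := c_comm S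
  set x₁ := c * x * c⁻¹ with hx₁
  have hx₁J : x₁ ∈ J := S.conj_mem c S.c_mem x hx
  have hxJ' : ∀ {r : G}, r ∈ J → c⁻¹ * r * c ∈ J := fun {r} hr => by
    simpa using S.conj_mem c⁻¹ (inv_mem S.c_mem) r hr
  obtain ⟨q, hq, hqx⟩ : ∃ q ∈ centJ J x₁, q ∉ centJ J x := by
    by_contra hno
    push Not at hno
    have h1 := eq_of_centJ S hx hx₁J hn hno
    refine hn (S.c_fix x hx ?_)
    show InZ z a b (x₁ * x⁻¹)
    have h2 : x₁ * x⁻¹ = x₁⁻¹ * x := by
      have hζ := inZ_K₀ S h1 (S.J_le hx₁J)
      calc x₁ * x⁻¹ = x₁ * (x₁⁻¹ * x)⁻¹ * x₁⁻¹ := by group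
        _ = (x₁⁻¹ * x)⁻¹ := by rw [← hζ.inv_left.eq, mul_inv_cancel_right]
        _ = x₁⁻¹ * x := inv_eq_of_mul_eq_one_right (inZ_sq S h1)
    rwa [h2]
  have hqJ := hq.1
  -- `A` moves `q` at most by `z`
  have hAq : A * q * A⁻¹ = q ∨ A * q * A⁻¹ = q * z := by
    set j := c * A * c⁻¹ * A⁻¹ with hj
    have hjJ : j ∈ J := S.c_K₀ A hAK
    have hr : Commute A (c⁻¹ * q * c) := by
      refine (h ⟨hxJ' hqJ, ?_⟩).2
      have := conj_comm (g := c⁻¹) hq.2
      rw [hx₁, show c⁻¹ * (c * x * c⁻¹) * c⁻¹⁻¹ = x by group, inv_inv] at this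
      exact this
    have h1 : Commute (j * A) q := by
      have := conj_comm (g := c) hr
      rw [show c * (c⁻¹ * q * c) * c⁻¹ = q by group] at this
      rwa [hj, show c * A * c⁻¹ * A⁻¹ * A = c * A * c⁻¹ by group]
    have h2 : A * q * A⁻¹ = j⁻¹ * q * j := by
      have h3 := comm_conj.1 h1
      calc A * q * A⁻¹ = j⁻¹ * (j * A * q * (j * A)⁻¹) * j := by group
        _ = j⁻¹ * q * j := by rw [h3]
    rcases S.comm_mem q hqJ j hjJ with e | e
    · left
      rw [h2, mul_assoc, e, inv_mul_cancel_left]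
    · right
      rw [h2, mul_assoc, e, mul_assoc j q z, inv_mul_cancel_left]
  have hxq : x * q = q * x * z :=
    (S.comm_mem x hx q hqJ).resolve_left fun e => hqx ⟨hqJ, e⟩
  have hall : ∀ B : G, Commute B z → centJ J x ⊆ centJ J B → Commute B q → B ∈ J := by
    intro B hB hBx hBq
    refine S.self_cent B (mem_cz.2 hB) fun p hp => ?_
    rcases S.comm_mem x hx p hp with e | e
    · exact (hBx ⟨hp, e⟩).2
    · have hxpq : Commute x (p * q) := by
        show x * (p * q) = p * q * x
        calc x * (p * q) = (x * p) * q := by group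
          _ = p * x * (z * q) := by rw [e]; group
          _ = p * x * (q * z) := by rw [(j_cent S hqJ).eq]
          _ = p * (x * q) * z := by group
          _ = p * q * x * (z * z) := by rw [hxq]; group
          _ = p * q * x := by rw [S.sq, mul_one]
      have h3 := ((hBx ⟨mul_mem hp hqJ, hxpq⟩).2).mul_right hBq.inv_right
      rwa [mul_inv_cancel_right] at h3
  rcases hAq with e | e
  · exact hall A hA h (comm_conj.2 e)
  · have hAx : A * x ∈ J := by
      refine hall _ (hA.mul_left (j_cent S hx)) (fun p hp => ⟨hp.1, (h hp).2.mul_left hp.2⟩)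
        (comm_conj.2 ?_)
      have hz1 : z⁻¹ = z := inv_eq_of_mul_eq_one_right S.sq
      have hxc : x * q * x⁻¹ = q * z := by
        rw [hxq, mul_assoc (q * x), ← (j_cent S hx).inv_left.eq]
        group
      calc A * x * q * (A * x)⁻¹ = A * (x * q * x⁻¹) * A⁻¹ := by group
        _ = (A * q * A⁻¹) * (A * z * A⁻¹) := by rw [hxc]; group
        _ = q := by rw [e, comm_conj.1 hA, mul_assoc, S.sq, mul_one]
    have := mul_mem hAx (inv_mem hx)
    rwa [mul_inv_cancel_right] at this

end basic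

end H62.Fi23C
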