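import Cfsg.Agent.H62.Fi23C.Rebase
import Cfsg.Agent.H53.Fi23C.Classes

/-!
S3233: the fusion facts.
-/

set_option autoImplicit false

namespace H62.Fi23C

open H2.Fi23C

universe u v

/-- The fusion facts. -/
theorem fusion : FusionStmt.{u, v} := by
  intro G _ _ F _ _ z a b c J K₀ π S hD hG
  exact fusion_of_classes S hD hG (H53.Fi23C.z_a S hD hG) (H53.Fi23C.z_d S hD hG)
    (H53.Fi23C.a_d S hD hG) (fun hq _ hP hPq => H53.Fi23C.sylow_into S hD hG hq hP hPq)

end H62.Fi23C
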