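import Cfsg.Agent.H62.Fi23C.Core
import Mathlib.GroupTheory.PGroup

/-!
S3233: an element moving `z` into its centraliser without normalising `W` moves nothing of the
centre of the core into the core, given the classes and the Sylow property of the centralisers.
-/

set_option autoImplicit false
set_option linter.unusedSectionVars false

namespace H62.Fi23C

open H2.Fi23C H39.Fi22C

variable {G : Type*} [Group G] [Finite G] {F : Type*} [Field F] [Fintype F] {z a b c : G}
  {J K₀ : Subgroup G} {π : ↥K₀ →* Cfsg.PSp 2 F}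

theorem normW_inv {g : G} (hg : NormW a b g) : NormW a b g⁻¹ := by
  obtain ⟨n, hn, hg'⟩ : ∃ n : ℕ, 0 < n ∧ g ^ n = 1 :=
    ⟨orderOf g, orderOf_pos g, pow_orderOf_eq_one g⟩
  have hpow : ∀ k : ℕ, NormW a b (g ^ k) := by
    intro k
    induction k with
    | zero => intro w hw; simpa using hw
    | succ k ih =>
      intro w hw
      rw [pow_succ', show g * g ^ k * w * (g * g ^ k)⁻¹ = g * (g ^ k * w * (g ^ k)⁻¹) * g⁻¹ by group]
      exact hg _ (ih w hw)
  have : g⁻¹ = g ^ (n - 1) := by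
    apply inv_eq_of_mul_eq_one_right
    rw [← pow_succ', Nat.sub_add_cancel hn, hg']
  rw [this]
  exact hpow _

section local'

variable (S : Setup4 z a b c J K₀ π)
include S

theorem isPGroup_zpowers {u : G} (hu : u * u = 1) : IsPGroup 2 (Subgroup.zpowers u) := by
  rintro ⟨x, k, rfl⟩
  refine ⟨1, Subtype.ext ?_⟩
  show (u ^ k) ^ (2 ^ 1) = 1
  have h2 : u ^ (2 : ℤ) = 1 := by rw [zpow_two, hu]
  rw [pow_one, ← zpow_natCast, ← zpow_mul, mul_comm, zpow_mul, Nat.cast_ofNat, h2, one_zpow]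

theorem isPGroup_J : IsPGroup 2 J := IsPGroup.of_card S.card_J

/-- A two-subgroup of `C(z)` fixes one of the three involutions of `W`. -/
theorem exists_fixed {P : Subgroup G} (hP : IsPGroup 2 P) (hPz : ∀ p ∈ P, Commute p z) :
    ∃ e, IsA a b e ∧ ∀ p ∈ P, Commute p e := by
  classical
  haveI : Fact (Nat.Prime 2) := ⟨Nat.prime_two⟩
  have hN : ∀ p : ↥P, NormW a b (p : G) := fun p => normW_of_cent S (hPz p p.2)
  letI : MulAction ↥P {e : G // IsA a b e} :=
    { smul := fun p e => ⟨(p : G) * e * (p : G)⁻¹, conj_isA S (hN p) e.2⟩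
      one_smul := fun e => Subtype.ext (by show (1 : G) * e * (1 : G)⁻¹ = e; group)
      mul_smul := fun p q e => Subtype.ext (by
        show ((p : G) * q) * e * ((p : G) * q)⁻¹ = p * (q * e * (q : G)⁻¹) * (p : G)⁻¹
        group) }
  have hcard : Nat.card {e : G // IsA a b e} = 3 := by
    have hset : {e : G | IsA a b e} = ({a, b, a * b} : Set G) := by
      ext e; simp [IsA]
    have h1 : a ≠ b := fun h => S.b_ne.2.2.1 h.symm
    have h2 : a ≠ a * b := fun h => S.b_ne.1 (mul_eq_left.1 h.symm)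
    have h3 : b ≠ a * b := fun h => S.a_ne.1 (mul_eq_right.1 h.symm)
    rw [show Nat.card {e : G // IsA a b e} = ({e : G | IsA a b e} : Set G).ncard from
      Nat.card_coe_set_eq _, hset]
    simp [h1, h2, h3]
  obtain ⟨e, he⟩ := hP.nonempty_fixed_point_of_prime_not_dvd_card {e : G // IsA a b e}
    (by rw [hcard]; decide)
  exact ⟨e, e.2, fun p hp => comm_conj.2 (congrArg Subtype.val (he ⟨p, hp⟩))⟩

variable (hD : DeadD z a b) (hG : GoodA z a b)

include hD in
/-- The `dead` field: the image of `ez` has its centraliser in the core inside that of the image of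
`z`. -/
theorem dead_field {k e : G} (he : IsA a b e) (hxz : Commute (k * z * k⁻¹) z) :
    centJ J (k * (e * z) * k⁻¹) ⊆ centJ J (k * z * k⁻¹) := by
  rintro p ⟨hp, hpD⟩
  refine ⟨hp, ?_⟩
  set P : Subgroup G :=
    (J ⊓ Subgroup.centralizer ({k * (e * z) * k⁻¹} : Set G)).map (MulAut.conj k⁻¹).toMonoidHom
    with hP
  have hmem : ∀ {g : G}, g ∈ P ↔ k * g * k⁻¹ ∈ J ∧ Commute (k * g * k⁻¹) (k * (e * z) * k⁻¹) := by
    intro g
    constructor
    · rintro ⟨r, ⟨hr, hr'⟩, rfl⟩
      simp only [MulEquiv.coe_toMonoidHom, MulAut.conj_apply, inv_inv]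
      rw [show k * (k⁻¹ * r * k) * k⁻¹ = r by group]
      exact ⟨hr, Subgroup.mem_centralizer_singleton_iff.1 hr'⟩
    · rintro ⟨hr, hr'⟩
      exact ⟨k * g * k⁻¹, ⟨hr, Subgroup.mem_centralizer_singleton_iff.2 hr'⟩, by simp [mul_assoc]⟩
  have h1 := (hD e he).2 P (((isPGroup_J S).to_le inf_le_left).map _) (fun g hg => by
      have := conj_comm (g := k⁻¹) (hmem.1 hg).2
      simpa [mul_assoc] using this)
    (fun g hg => hmem.2 ⟨by
        rw [show k * (z * g * z⁻¹) * k⁻¹ = (k * z * k⁻¹) * (k * g * k⁻¹) * (k * z * k⁻¹)⁻¹ by group]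
        exact S.conj_mem _ (mem_cz.2 hxz) _ (hmem.1 hg).1, by
        refine conj_comm ?_
        have hez : Commute z (e * z) := ((isA_z S he).symm).mul_right (Commute.refl z)
        have hge : Commute g (e * z) := by
          have := conj_comm (g := k⁻¹) (hmem.1 hg).2
          simpa [mul_assoc] using this
        exact (hez.mul_left hge).mul_left hez.inv_left⟩)
    (k⁻¹ * p * k) (hmem.2 (by
      rw [show k * (k⁻¹ * p * k) * k⁻¹ = p by group]
      exact ⟨hp, hpD.symm⟩))
  have := conj_comm (g := k) h1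
  rwa [show k * (k⁻¹ * p * k) * k⁻¹ = p by group] at this

include hG in
/-- An element sending an involution of `W` into `W` and `z` into `C(z)` normalises `W`. -/
theorem normW_of_A {k e : G} (he : IsA a b e) (hxz : Commute (k * z * k⁻¹) z)
    (hA : IsA a b (k * e * k⁻¹)) : NormW a b k := by
  obtain ⟨g, hg, hge⟩ := rot S hA he
  have h1 : Commute (g * k) e := comm_conj.2 (by
    rw [show g * k * e * (g * k)⁻¹ = g * (k * e * k⁻¹) * g⁻¹ by group, hge])
  have h2 : Commute (g * k * z * (g * k)⁻¹) z := by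
    have := conj_comm (g := g) hxz
    rwa [comm_conj.1 hg, show g * (k * z * k⁻¹) * g⁻¹ = g * k * z * (g * k)⁻¹ by group] at this
  have := normW_mul S (normW_inv (normW_of_cent S hg)) (hG e he _ h1 h2)
  rwa [inv_mul_cancel_left] at this

include hD in
/-- The same for the involutions of `zW`. -/
theorem normW_of_D {k e : G} (he : IsA a b e) (hxz : Commute (k * z * k⁻¹) z)
    (hA : IsA a b (k * (e * z) * k⁻¹ * z)) : NormW a b k := by
  obtain ⟨g, hg, hge⟩ := rot S hA he
  have hgd : g * (k * (e * z) * k⁻¹) * g⁻¹ = e * z := by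
    calc g * (k * (e * z) * k⁻¹) * g⁻¹ = g * (k * (e * z) * k⁻¹ * z) * g⁻¹ * (g * z⁻¹ * g⁻¹) := by
          group
      _ = e * z := by
          rw [hge, comm_conj.1 (hg.inv_right), inv_eq_of_mul_eq_one_right S.sq]
  have h1 : Commute (g * k) (e * z) := comm_conj.2 (by
    rw [show g * k * (e * z) * (g * k)⁻¹ = g * (k * (e * z) * k⁻¹) * g⁻¹ by group, hgd])
  have h2 : Commute (g * k * z * (g * k)⁻¹) z := by
    have := conj_comm (g := g) hxz
    rwa [comm_conj.1 hg, show g * (k * z * k⁻¹) * g⁻¹ = g * k * z * (g * k)⁻¹ by group] at this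
  have h3 := (hD e he).1 _ h1 h2
  have := normW_mul S (normW_inv (normW_of_cent S hg)) (normW_of_cent S (comm_conj.2 h3))
  rwa [inv_mul_cancel_left] at this

variable (hza : ∀ e, IsA a b e → ¬ IsConj z e) (hzd : ∀ e, IsA a b e → ¬ IsConj z (e * z))
  (had : ∀ e e', IsA a b e → IsA a b e' → ¬ IsConj e (e' * z))

include hza hzd had in
/-- Classes in the centre of the core. -/
theorem inZ_class {k p : G} (hp : InZ z a b (k * p * k⁻¹)) :
    (p = z → k * p * k⁻¹ = z) ∧ (IsA a b p → IsA a b (k * p * k⁻¹)) ∧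
      (IsA a b (p * z) → IsA a b (k * p * k⁻¹ * z)) := by
  set y := k * p * k⁻¹ with hy
  have hconj : IsConj p y := isConj_iff.2 ⟨k, hy.symm⟩
  have hy1 : y = 1 → p = 1 := conj_eq_one
  rcases hp with h | h <;> rcases h with h | h
  · have hp1 := hy1 h
    subst hp1
    refine ⟨fun e => absurd e.symm S.ne_one, fun e => absurd rfl (isA_ne S e).1, fun e => ?_⟩
    rw [one_mul] at e
    exact absurd rfl (isA_ne S e).2
  · refine ⟨fun e => ?_, fun _ => h, fun e => ?_⟩
    · subst e; exact absurd hconj (hza _ h)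
    · refine absurd ?_ (had _ _ h e)
      rw [mul_assoc, S.sq, mul_one]
      exact hconj.symm
  · have hyz : y = z := by
      calc y = (y * z) * z := by rw [mul_assoc, S.sq, mul_one]
        _ = z := by rw [h, one_mul]
    refine ⟨fun _ => hyz, fun e => ?_, fun e => ?_⟩
    · rw [hyz] at hconj; exact absurd hconj.symm (hza _ e)
    · refine absurd ?_ (hzd _ e)
      rw [mul_assoc, S.sq, mul_one]
      rw [hyz] at hconj
      exact hconj.symm
  · refine ⟨fun e => ?_, fun e => ?_, fun _ => h⟩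
    · subst e
      refine absurd ?_ (hzd _ h)
      rw [mul_assoc, S.sq, mul_one]
      exact hconj
    · refine absurd ?_ (had _ _ e h)
      rw [mul_assoc, S.sq, mul_one]
      exact hconj

include hD hG hza hzd had

theorem bad_a_inZ {k e : G} (he : IsA a b e) (hB : Bad z a b k) :
    ¬ InZ z a b (k * e * k⁻¹) :=
  fun h => hB.2 (normW_of_A S hG he hB.1 ((inZ_class S hza hzd had h).2.1 he))

theorem bad_d_inZ {k e : G} (he : IsA a b e) (hB : Bad z a b k) :
    ¬ InZ z a b (k * (e * z) * k⁻¹) :=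
  fun h => hB.2 (normW_of_D S hD he hB.1 ((inZ_class S hza hzd had h).2.2
    (by rwa [mul_assoc, S.sq, mul_one])))

theorem bad_z' {k : G} (hB : Bad z a b k) : k * z * k⁻¹ ∉ J := by
  intro hx
  set x := k * z * k⁻¹ with hxdef
  have hxn : ¬ InZ z a b x := fun h => hB.2
    (normW_of_cent S (comm_conj.2 ((inZ_class S hza hzd had h).1 rfl)))
  have branch : ∀ e, IsA a b e → k * e * k⁻¹ ∈ J → False := by
    intro e he hAJ
    have hAn := bad_a_inZ S hD hG hza hzd had he hB
    have hDJ : k * (e * z) * k⁻¹ ∈ J := by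
      rw [show k * (e * z) * k⁻¹ = (k * e * k⁻¹) * (k * z * k⁻¹) by group]
      exact mul_mem hAJ hx
    have h1 := eq_of_centJ S hx hDJ hxn (dead_field S hD he hB.1)
    have hez : (e * z)⁻¹ * z = e := by
      rw [mul_inv_rev, inv_eq_of_mul_eq_one_right S.sq, inv_eq_of_mul_eq_one_right (isA_sq S he),
        ← (isA_z S he).eq, mul_assoc, S.sq, mul_one]
    rw [show (k * (e * z) * k⁻¹)⁻¹ * x = k * ((e * z)⁻¹ * z) * k⁻¹ by rw [hxdef]; group,
      hez] at h1
    exact hAn h1
  have hu2 : k⁻¹ * z * k * (k⁻¹ * z * k) = 1 := by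
    rw [show k⁻¹ * z * k * (k⁻¹ * z * k) = k⁻¹ * (z * z) * k by group, S.sq]; group
  have hu : Commute (k⁻¹ * z * k) z := by
    have := conj_comm (g := k⁻¹) hB.1
    rw [show k⁻¹ * (k * z * k⁻¹) * k⁻¹⁻¹ = z by group, inv_inv] at this
    exact this.symm
  obtain ⟨e, he, hue⟩ := exists_fixed S (isPGroup_zpowers S hu2) fun p hp => by
    obtain ⟨n, rfl⟩ := hp
    exact hu.zpow_left n
  set A := k * e * k⁻¹ with hA
  have hAz : Commute A z := by
    have := conj_comm (g := k) (hue _ (Subgroup.mem_zpowers _))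
    rw [show k * (k⁻¹ * z * k) * k⁻¹ = z by group] at this
    exact this.symm
  by_cases hAJ : A ∈ J
  · exact branch e he hAJ
  refine hAJ (mem_J_of_centJ S hx hxn hAz fun r hr => ⟨hr.1, ?_⟩)
  by_contra hne
  have hrz : Commute (k⁻¹ * r * k) z := by
    have := conj_comm (g := k⁻¹) hr.2
    rw [hxdef, show k⁻¹ * (k * z * k⁻¹) * k⁻¹⁻¹ = z by group, inv_inv] at this
    exact this.symm
  have he' := conj_isA S (normW_of_cent S hrz) he
  set e' := k⁻¹ * r * k * e * (k⁻¹ * r * k)⁻¹ with he'd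
  have hke' : k * e' * k⁻¹ = r * A * r⁻¹ := by rw [he'd, hA]; group
  have hne' : e' ≠ e := fun h => hne (by
    rw [h] at hke'
    exact (comm_conj.2 hke'.symm).symm)
  have he2 : IsA a b (e * e') := by
    refine isA_of_inW S (inW_mul S (Or.inr he) (Or.inr he')) fun h => hne' ?_
    rw [eq_inv_of_mul_eq_one_right h, inv_eq_of_mul_eq_one_right (isA_sq S he)]
  refine branch _ he2 ?_
  have hA2 : A⁻¹ = A := by
    rw [hA, show (k * e * k⁻¹)⁻¹ = k * e⁻¹ * k⁻¹ by group,
      inv_eq_of_mul_eq_one_right (isA_sq S he)]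
  rw [show k * (e * e') * k⁻¹ = A * (k * e' * k⁻¹) by rw [hA]; group, hke']
  have h3 := mul_mem (S.conj_mem A (mem_cz.2 hAz) r hr.1) (inv_mem hr.1)
  rw [hA2] at h3
  simpa [mul_assoc] using h3

end local'

end H62.Fi23C
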