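import Cfsg.Agent.H62.Fi23C.Local

/-!
S3233: the fusion data from the classes in the centre of the core and the Sylow property of the
centralisers of its involutions outside `⟨z⟩`.
-/

set_option autoImplicit false
set_option linter.unusedSectionVars false
set_option linter.style.haveILetI false

namespace H62.Fi23C

open H2.Fi23C H39.Fi22C

variable {G : Type*} [Group G] [Finite G] {F : Type*} [Field F] [Fintype F] {z a b c : G}
  {J K₀ : Subgroup G} {π : ↥K₀ →* Cfsg.PSp 2 F}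
  (S : Setup4 z a b c J K₀ π) (hD : DeadD z a b) (hG : GoodA z a b)
  (hza : ∀ e, IsA a b e → ¬ IsConj z e) (hzd : ∀ e, IsA a b e → ¬ IsConj z (e * z))
  (had : ∀ e e', IsA a b e → IsA a b e' → ¬ IsConj e (e' * z))
  (hsyl : ∀ {q : G}, (IsA a b q ∨ IsA a b (q * z)) → ∀ {P : Subgroup G}, IsPGroup 2 P →
    (∀ p ∈ P, Commute p q) → ∃ m, Commute m q ∧ ∀ p ∈ P, Commute (m * p * m⁻¹) z)

include S

/-- The elements `q` considered commute with `z`. -/
theorem q_comm {q : G} (hq : q = z ∨ IsA a b q ∨ IsA a b (q * z)) : Commute q z := by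
  rcases hq with rfl | h | h
  · exact Commute.refl _
  · exact isA_z S h
  · have := (isA_z S h).mul_left (Commute.refl z)
    rwa [mul_assoc, S.sq, mul_one] at this

theorem conj_sq {k : G} : k * z * k⁻¹ * (k * z * k⁻¹) = 1 := by
  rw [show k * z * k⁻¹ * (k * z * k⁻¹) = k * (z * z) * k⁻¹ by group, S.sq]; group

include hsyl in
theorem conj_into' {k q : G} (hq : q = z ∨ IsA a b q ∨ IsA a b (q * z))
    (hy : Commute (k * q * k⁻¹) z) :
    ∃ k', k' * q * k'⁻¹ = k * q * k⁻¹ ∧ Commute (k' * z * k'⁻¹) z := by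
  rcases hq with rfl | hq
  · exact ⟨k, rfl, hy⟩
  set u := k⁻¹ * z * k with hu
  have hu2 : u * u = 1 := by
    rw [hu, show k⁻¹ * z * k * (k⁻¹ * z * k) = k⁻¹ * (z * z) * k by group, S.sq]; group
  have huq : Commute u q := by
    have := conj_comm (g := k⁻¹) hy
    rw [show k⁻¹ * (k * q * k⁻¹) * k⁻¹⁻¹ = q by group, inv_inv, ← hu] at this
    exact this.symm
  obtain ⟨m, hm, hm'⟩ := hsyl hq (isPGroup_zpowers S hu2) fun p hp => by
    obtain ⟨n, rfl⟩ := hp
    exact huq.zpow_left n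
  refine ⟨k * m⁻¹, ?_, ?_⟩
  · rw [show k * m⁻¹ * q * (k * m⁻¹)⁻¹ = k * (m⁻¹ * q * m⁻¹⁻¹) * k⁻¹ by group,
      comm_conj.1 hm.inv_left]
  · have h1 : Commute (m * u * m⁻¹) z := hm' _ (Subgroup.mem_zpowers _)
    have h2 := conj_comm (g := k * m⁻¹) h1
    rw [hu, show k * m⁻¹ * (m * (k⁻¹ * z * k) * m⁻¹) * (k * m⁻¹)⁻¹ = z by group] at h2
    exact h2.symm

include hsyl in
theorem sylow' {q u : G} (hq : IsA a b q ∨ IsA a b (q * z)) (hu : u * u = 1) (huq : Commute u q) :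
    ∃ m, Commute m q ∧ Commute (m * u * m⁻¹) z := by
  obtain ⟨m, hm, hm'⟩ := hsyl hq (isPGroup_zpowers S hu) fun p hp => by
    obtain ⟨n, rfl⟩ := hp
    exact huq.zpow_left n
  exact ⟨m, hm, hm' _ (Subgroup.mem_zpowers _)⟩

include hD hG hsyl in
/-- Another element with the same image of `q`, whose images of `z` and of an involution of `W`
commute with `z` and with the centraliser of that image in the core. -/
theorem rebase' {k q : G} (hq : q = z ∨ IsA a b q ∨ IsA a b (q * z)) (hB : Bad z a b k)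
    (hy : Commute (k * q * k⁻¹) z) :
    ∃ k' e, IsA a b e ∧ Bad z a b k' ∧ Commute (k' * e * k'⁻¹) z ∧
      (∃ q', (q' = z ∨ q' = e ∨ q' = e * z) ∧ k' * q' * k'⁻¹ = k * q * k⁻¹) ∧
      centJ J (k * q * k⁻¹) ⊆ centJ J (k' * z * k'⁻¹) ∧
      centJ J (k * q * k⁻¹) ⊆ centJ J (k' * e * k'⁻¹) := by
  haveI : Fact (Nat.Prime 2) := ⟨Nat.prime_two⟩
  set x := k * z * k⁻¹ with hx
  set y := k * q * k⁻¹ with hyd
  have hxy : Commute x y := conj_comm (q_comm S hq).symm
  set T : Subgroup G :=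
    (Subgroup.zpowers x ⊔ J) ⊓ Subgroup.centralizer ({y} : Set G) with hT
  have hTmem : ∀ {g : G}, g ∈ T ↔ g ∈ Subgroup.zpowers x ⊔ J ∧ Commute g y := fun {g} =>
    ⟨fun h => ⟨h.1, Subgroup.mem_centralizer_singleton_iff.1 h.2⟩,
      fun h => ⟨h.1, Subgroup.mem_centralizer_singleton_iff.2 h.2⟩⟩
  have hTp : IsPGroup 2 T := by
    refine (IsPGroup.to_sup_of_normal_right' (isPGroup_zpowers S (conj_sq S)) (isPGroup_J S)
      ?_).to_le inf_le_left
    rw [Subgroup.zpowers_le]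
    intro p
    refine ⟨fun hp => S.conj_mem x (mem_cz.2 hB.1) p hp, fun hp => ?_⟩
    have := S.conj_mem x⁻¹ (mem_cz.2 hB.1.inv_left) _ hp
    rwa [show x⁻¹ * (x * p * x⁻¹) * x⁻¹⁻¹ = p by group] at this
  have hzT : z ∈ T := hTmem.2 ⟨Subgroup.mem_sup_right S.z_mem, hy.symm⟩
  have hxT : x ∈ T := hTmem.2 ⟨Subgroup.mem_sup_left (Subgroup.mem_zpowers _), hxy⟩
  have hcT : ∀ {p : G}, p ∈ centJ J y → p ∈ T := fun hp =>
    hTmem.2 ⟨Subgroup.mem_sup_right hp.1, hp.2.symm⟩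
  set P : Subgroup G := T.map (MulAut.conj k⁻¹).toMonoidHom with hP
  have hPp : IsPGroup 2 P := hTp.map _
  have hPmem : ∀ {g : G}, g ∈ T → k⁻¹ * g * k ∈ P := fun {g} hg => ⟨g, hg, by simp⟩
  have hPq : ∀ g ∈ P, Commute g q := by
    rintro _ ⟨g, hg, rfl⟩
    have := conj_comm (g := k⁻¹) (hTmem.1 hg).2
    rw [hyd, show k⁻¹ * (k * q * k⁻¹) * k⁻¹⁻¹ = q by group] at this
    simpa using this
  rcases hq with rfl | hq
  · obtain ⟨e, he, hPe⟩ := exists_fixed S hPp hPq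
    have hA : ∀ {g : G}, g ∈ T → Commute g (k * e * k⁻¹) := fun {g} hg => by
      have := conj_comm (g := k) (hPe _ (hPmem hg))
      rwa [show k * (k⁻¹ * g * k) * k⁻¹ = g by group] at this
    exact ⟨k, e, he, hB, (hA hzT).symm, ⟨q, Or.inl rfl, rfl⟩, fun p hp => hp,
      fun p hp => ⟨hp.1, (hA (hcT hp)).symm⟩⟩
  obtain ⟨m, hm, hmP⟩ := hsyl hq hPp hPq
  have hmz : Commute (m * z * m⁻¹) z := by
    have := hmP _ (hPmem hxT)
    rwa [hx, show k⁻¹ * (k * z * k⁻¹) * k = z by group] at this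
  set k' := k * m⁻¹ with hk'
  have hq' : k' * q * k'⁻¹ = y := by
    rw [hk', show k * m⁻¹ * q * (k * m⁻¹)⁻¹ = k * (m⁻¹ * q * m⁻¹⁻¹) * k⁻¹ by group,
      comm_conj.1 hm.inv_left]
  have hx' : ∀ {g : G}, g ∈ T → Commute g (k' * z * k'⁻¹) := fun {g} hg => by
    have := conj_comm (g := k') (hmP _ (hPmem hg))
    rwa [hk', show k * m⁻¹ * (m * (k⁻¹ * g * k) * m⁻¹) * (k * m⁻¹)⁻¹ = g by group, ← hk'] at this
  -- the correcting element normalises `W`
  obtain ⟨hmW, e, he, hqe⟩ : NormW a b m ∧ ∃ e, IsA a b e ∧ (q = e ∨ q = e * z) := by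
    rcases hq with h | h
    · exact ⟨hG q h m hm hmz, q, h, Or.inl rfl⟩
    · have hqz : q * z * z = q := by rw [mul_assoc, S.sq, mul_one]
      refine ⟨normW_of_cent S (comm_conj.2 ((hD _ h).1 m (by rwa [hqz]) hmz)), q * z, h,
        Or.inr hqz.symm⟩
  have hB' : Bad z a b k' := by
    refine ⟨(hx' hzT).symm, fun h => hB.2 ?_⟩
    have := normW_mul S h hmW
    rwa [hk', inv_mul_cancel_right] at this
  have hA : ∀ {g : G}, g ∈ T → Commute g (k' * e * k'⁻¹) := fun {g} hg => by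
    have hgy := (hTmem.1 hg).2
    rcases hqe with rfl | rfl
    · rwa [hq']
    · have h1 := hgy.mul_right (hx' hg)
      rwa [← hq', show k' * (e * z) * k'⁻¹ * (k' * z * k'⁻¹) = k' * (e * (z * z)) * k'⁻¹ by group,
        S.sq, mul_one] at h1
  refine ⟨k', e, he, hB', (hA hzT).symm, ⟨q, hqe.elim (fun h => Or.inr (Or.inl h))
    (fun h => Or.inr (Or.inr h)), hq'⟩, fun p hp => ⟨hp.1, (hx' (hcT hp)).symm⟩,
    fun p hp => ⟨hp.1, (hA (hcT hp)).symm⟩⟩

include hD hG hza hzd had hsyl in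
/-- All the fields. -/
theorem fusion_of_classes : Fusion4 z a b J where
  z_a := hza
  z_d := hzd
  a_d := had
  bad_z := fun k hB => bad_z' S hD hG hza hzd had hB
  bad_a := fun k e he hB hA => by
    obtain ⟨k', e', -, hB', -, -, hsub, -⟩ :=
      rebase' S hD hG hsyl (Or.inr (Or.inl he)) hB (j_cent S hA)
    exact bad_z' S hD hG hza hzd had hB'
      (mem_J_of_centJ S hA (bad_a_inZ S hD hG hza hzd had he hB) hB'.1 hsub)
  bad_d := fun k e he hB hA => by
    have hez : IsA a b (e * z * z) := by rwa [mul_assoc, S.sq, mul_one]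
    obtain ⟨k', e', -, hB', -, -, hsub, -⟩ :=
      rebase' S hD hG hsyl (Or.inr (Or.inr hez)) hB (j_cent S hA)
    exact bad_z' S hD hG hza hzd had hB'
      (mem_J_of_centJ S hA (bad_d_inZ S hD hG hza hzd had he hB) hB'.1 hsub)
  rebase := fun k q hq hB hy => rebase' S hD hG hsyl hq hB hy
  conj_into := fun k q hq hy => conj_into' S hsyl hq hy
  sylow := fun q u hq hu huq => sylow' S hsyl hq hu huq
  dead := fun k e he hxz _ => dead_field S hD he hxz

end H62.Fi23C
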